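import Groth.Agent.Lib.GenFree.Generic
import Mathlib.RingTheory.TensorProduct.MvPolynomial
import Mathlib.LinearAlgebra.TensorProduct.Pi
import Mathlib.LinearAlgebra.Matrix.ToLin
import Mathlib.RingTheory.Flat.Localization
import Mathlib.RingTheory.Localization.BaseChange

/-!
# Generic constancy of a polynomial kernel-equals-image condition
-/

set_option autoImplicit false
set_option linter.all false
set_option backward.isDefEq.respectTransparency false

universe u

open TensorProduct
open LinearMap (lTensor)

namespace GrothLib.FibExact10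

variable {A : Type u} [CommRing A]

/-- Inverting `f` makes a module free on `D(f)` free. -/
theorem free_baseChange_of_freeOn {f : A} {Q : Type u} [AddCommGroup Q] [Module A Q] (h : GenFree.FreeOn f Q) :
    Module.Free (Localization.Away f) (Localization.Away f ⊗[A] Q) := by
  obtain ⟨ι, φ, h1, h2⟩ := h
  haveI hQ : IsLocalizedModule (Submonoid.powers f) (TensorProduct.mk A (Localization.Away f) Q 1) :=
    (isLocalizedModule_iff_isBaseChange (Submonoid.powers f) (Localization.Away f) _).mpr
      (TensorProduct.isBaseChange _ _ _)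
  haveI hL : IsLocalizedModule (Submonoid.powers f) (TensorProduct.mk A (Localization.Away f) (ι →₀ A) 1) :=
    (isLocalizedModule_iff_isBaseChange (Submonoid.powers f) (Localization.Away f) _).mpr
      (TensorProduct.isBaseChange _ _ _)
  have hb : Function.Bijective (φ.baseChange (Localization.Away f)) := by
    constructor
    · rw [injective_iff_map_eq_zero]
      intro x hx
      obtain ⟨⟨l, ⟨_, k, rfl⟩⟩, hlk⟩ := IsLocalizedModule.surj (Submonoid.powers f)
        (TensorProduct.mk A (Localization.Away f) (ι →₀ A) 1) x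
      have h0 : (TensorProduct.mk A (Localization.Away f) Q 1) (φ l) = (TensorProduct.mk A (Localization.Away f) Q 1) 0 := by
        rw [map_zero]
        have := congrArg (φ.baseChange (Localization.Away f)) hlk
        simp only [Submonoid.smul_def, map_smul, LinearMap.map_smul_of_tower, hx, smul_zero] at this
        simpa using this.symm
      obtain ⟨⟨_, j, rfl⟩, hj⟩ := (IsLocalizedModule.eq_iff_exists (Submonoid.powers f) _).1 h0
      simp only [Submonoid.smul_def, smul_zero] at hj
      obtain ⟨e, he⟩ := h2 (f ^ j • l) (by rw [map_smul, hj])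
      have hu : ∀ n : ℕ, IsUnit (algebraMap A (Localization.Away f) (f ^ n)) := fun n =>
        IsLocalization.map_units _ (⟨f ^ n, n, rfl⟩ : Submonoid.powers f)
      have h3 : f ^ (e + j + k) • x = 0 := by
        have := congrArg (TensorProduct.mk A (Localization.Away f) (ι →₀ A) 1) he
        rw [map_smul, map_smul, map_zero] at this
        rw [pow_add, pow_add, mul_smul, mul_smul]
        simp only [Submonoid.smul_def] at hlk
        rw [hlk]
        exact this
      rwa [← IsScalarTower.algebraMap_smul (Localization.Away f), (hu _).smul_eq_zero] at h3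
    · intro y
      obtain ⟨⟨q, ⟨_, k, rfl⟩⟩, hqk⟩ := IsLocalizedModule.surj (Submonoid.powers f)
        (TensorProduct.mk A (Localization.Away f) Q 1) y
      obtain ⟨e, l, hl⟩ := h1 q
      obtain ⟨c, hc⟩ := (IsLocalization.map_units (Localization.Away f)
        (⟨f ^ (e + k), e + k, rfl⟩ : Submonoid.powers f)).exists_left_inv
      refine ⟨c ⊗ₜ l, ?_⟩
      rw [LinearMap.baseChange_tmul, hl]
      simp only [Submonoid.smul_def] at hqk
      have : f ^ e • f ^ k • y = f ^ e • ((1 : Localization.Away f) ⊗ₜ[A] q) := congrArg (f ^ e • ·) hqk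
      rw [smul_smul, ← pow_add, ← IsScalarTower.algebraMap_smul (Localization.Away f)] at this
      calc c ⊗ₜ[A] (f ^ e • q) = c • (f ^ e • ((1 : Localization.Away f) ⊗ₜ[A] q)) := by
            rw [← tmul_smul, smul_tmul', smul_eq_mul, mul_one]
        _ = y := by rw [← this, smul_smul, hc, one_smul]
  exact Module.Free.of_equiv (LinearEquiv.ofBijective _ hb)

variable {L : Type u} [CommRing L] [Algebra A L] {f : A}

/-- The algebra over the localization at an element becoming a unit. -/
noncomputable def awayAlg (hf : IsUnit (algebraMap A L f)) : Algebra (Localization.Away f) L :=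
  (IsLocalization.Away.lift f hf).toAlgebra

theorem awayAlg_tower (hf : IsUnit (algebraMap A L f)) :
    letI := awayAlg hf
    IsScalarTower A (Localization.Away f) L := by
  letI := awayAlg hf
  exact IsScalarTower.of_algebraMap_eq fun a => (IsLocalization.Away.lift_eq f hf a).symm

/-- Tensoring keeps injective the inclusion of a kernel with quotient free on `D(f)`. -/
theorem lTensor_injective {N M Q : Type u} [AddCommGroup N] [Module A N] [AddCommGroup M] [Module A M]
    [AddCommGroup Q] [Module A Q] (i : N →ₗ[A] M) (g : M →ₗ[A] Q) (hi : Function.Injective i)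
    (hig : Function.Exact i g) (hg : Function.Surjective g) (hQ : GenFree.FreeOn f Q)
    (hf : IsUnit (algebraMap A L f)) : Function.Injective (lTensor L i) := by
  letI := awayAlg hf
  haveI := awayAlg_tower hf
  let Af := Localization.Away f
  haveI := free_baseChange_of_freeOn hQ
  haveI : Module.Flat A Af := IsLocalization.flat _ (Submonoid.powers f)
  have hi' : Function.Injective (i.baseChange Af) := Module.Flat.lTensor_preserves_injective_linearMap i hi
  have hg' : Function.Surjective (g.baseChange Af) := LinearMap.lTensor_surjective Af hg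
  have hex : Function.Exact (i.baseChange Af) (g.baseChange Af) := lTensor_exact Af hig hg
  obtain ⟨s, hs⟩ := Module.projective_lifting_property (g.baseChange Af) LinearMap.id hg'
  obtain ⟨r, hr⟩ : ∃ r : Af ⊗[A] M →ₗ[Af] Af ⊗[A] N, r ∘ₗ i.baseChange Af = LinearMap.id :=
    ((Function.Exact.split_tfae (f := i.baseChange Af) (g := g.baseChange Af) hex hi' hg').out 0 1).mp (show ∃ l, g.baseChange Af ∘ₗ l = LinearMap.id from ⟨s, hs⟩)
  let eN := AlgebraTensorModule.cancelBaseChange A Af Af L N
  let eM := AlgebraTensorModule.cancelBaseChange A Af Af L M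
  have hnat : ∀ z, eM (lTensor L (i.baseChange Af) z) = lTensor L i (eN z) := by
    intro z
    induction z using TensorProduct.induction_on with
    | zero => simp
    | tmul l t =>
      induction t using TensorProduct.induction_on with
      | zero => simp
      | tmul a n => simp [eN, eM]
      | add x y hx hy => simp only [tmul_add, map_add, hx, hy]
    | add x y hx hy => simp only [map_add, hx, hy]
  intro a b hab
  obtain ⟨a, rfl⟩ := eN.surjective a
  obtain ⟨b, rfl⟩ := eN.surjective b
  rw [← hnat, ← hnat] at hab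
  have h := congrArg (lTensor L r) (eM.injective hab)
  rw [← LinearMap.comp_apply, ← LinearMap.comp_apply, ← LinearMap.lTensor_comp, hr, LinearMap.lTensor_id,
    LinearMap.id_apply, LinearMap.id_apply] at h
  rw [h]

/-- Vanishing after tensoring of a module free on `D(f)` does not depend on the nonzero algebra. -/
theorem subsingleton_iff {Z : Type u} [AddCommGroup Z] [Module A Z] (hZ : GenFree.FreeOn f Z)
    [Nontrivial L] (hf : IsUnit (algebraMap A L f)) :
    Subsingleton (L ⊗[A] Z) ↔ Subsingleton (Localization.Away f ⊗[A] Z) := by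
  letI := awayAlg hf
  haveI := awayAlg_tower hf
  let Af := Localization.Away f
  haveI := free_baseChange_of_freeOn hZ
  have hb := Module.Free.chooseBasis Af (Af ⊗[A] Z)
  let e := AlgebraTensorModule.cancelBaseChange A Af L L Z
  constructor
  · intro h
    rw [← not_nontrivial_iff_subsingleton]
    intro hn
    obtain ⟨i⟩ := hb.index_nonempty
    exact (hb.baseChange L).ne_zero i (e.injective (Subsingleton.elim _ _))
  · intro h
    exact e.symm.toEquiv.subsingleton

theorem range_lTensor_comp {X Y Z : Type u} [AddCommGroup X] [Module A X] [AddCommGroup Y] [Module A Y]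
    [AddCommGroup Z] [Module A Z] (a : X →ₗ[A] Y) (b : Y →ₗ[A] Z) (ha : Function.Surjective a) :
    LinearMap.range (lTensor L (b ∘ₗ a)) = LinearMap.range (lTensor L b) := by
  rw [LinearMap.lTensor_comp, LinearMap.range_comp,
    LinearMap.range_eq_top.2 (LinearMap.lTensor_surjective L ha), Submodule.map_top]

/-- For nested submodules equality of images after tensoring is vanishing of the quotient. -/
theorem range_eq_iff {Q : Type u} [AddCommGroup Q] [Module A Q] {M S : Submodule A Q} (hMS : M ≤ S)
    (hQ : GenFree.FreeOn f (Q ⧸ S)) (hf : IsUnit (algebraMap A L f)) :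
    LinearMap.range (lTensor L M.subtype) = LinearMap.range (lTensor L S.subtype) ↔
      Subsingleton (L ⊗[A] (S ⧸ LinearMap.range (Submodule.inclusion hMS))) := by
  have hinj : Function.Injective (lTensor L S.subtype) :=
    lTensor_injective S.subtype S.mkQ S.subtype_injective (LinearMap.exact_subtype_mkQ S) S.mkQ_surjective hQ hf
  let q := (LinearMap.range (Submodule.inclusion hMS)).mkQ
  have hq : Function.Exact (lTensor L (Submodule.inclusion hMS)) (lTensor L q) :=
    lTensor_exact L (LinearMap.exact_map_mkQ_range _) (Submodule.mkQ_surjective _)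
  have hqs : Function.Surjective (lTensor L q) := LinearMap.lTensor_surjective L (Submodule.mkQ_surjective _)
  have hM : lTensor L M.subtype = lTensor L S.subtype ∘ₗ lTensor L (Submodule.inclusion hMS) := by
    rw [← LinearMap.lTensor_comp]; rfl
  rw [hM, LinearMap.range_comp, ← Submodule.map_top (f := lTensor L S.subtype),
    (Submodule.map_injective_of_injective hinj).eq_iff]
  constructor
  · intro h
    refine subsingleton_of_forall_eq 0 fun z => ?_
    obtain ⟨z, rfl⟩ := hqs z
    exact (hq z).2 ((Submodule.eq_top_iff'.1 h) z)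
  · intro h
    exact Submodule.eq_top_iff'.2 fun z => (hq z).1 (Subsingleton.elim _ _)

/-- Generic constancy of the equality of a kernel image and an image. -/
theorem exists_const {P D Q X : Type u} [AddCommGroup P] [Module A P] [AddCommGroup D] [Module A D]
    [AddCommGroup Q] [Module A Q] [AddCommGroup X] [Module A X] (w : P →ₗ[A] D) (π : P →ₗ[A] Q) (v : X →ₗ[A] Q)
    (M N S : Submodule A Q) (hM : M = (LinearMap.ker w).map π) (hN : N = LinearMap.range v) (hS : S = M ⊔ N)
    (hMS : M ≤ S) (hNS : N ≤ S)
    (h₀ : GenFree.FreeOn f (D ⧸ LinearMap.range w)) (h₁ : GenFree.FreeOn f (Q ⧸ S))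
    (h₂ : GenFree.FreeOn f (↥S ⧸ LinearMap.range (Submodule.inclusion hMS)))
    (h₃ : GenFree.FreeOn f (↥S ⧸ LinearMap.range (Submodule.inclusion hNS))) :
    ∃ c : Prop, ∀ (L : Type u) [CommRing L] [Nontrivial L] [Algebra A L], IsUnit (algebraMap A L f) →
      ((LinearMap.ker (lTensor L w)).map (lTensor L π) = LinearMap.range (lTensor L v) ↔ c) := by
  refine ⟨Subsingleton (Localization.Away f ⊗[A] (↥S ⧸ LinearMap.range (Submodule.inclusion hMS))) ∧
      Subsingleton (Localization.Away f ⊗[A] (↥S ⧸ LinearMap.range (Submodule.inclusion hNS))),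
    fun L _ _ _ hf => ?_⟩
  rw [← subsingleton_iff h₂ hf, ← subsingleton_iff h₃ hf, ← range_eq_iff hMS h₁ hf,
    ← range_eq_iff hNS h₁ hf]
  have hker : LinearMap.ker (lTensor L w) = LinearMap.range (lTensor L (LinearMap.ker w).subtype) := by
    have hinj : Function.Injective (lTensor L (LinearMap.range w).subtype) :=
      lTensor_injective _ (LinearMap.range w).mkQ (LinearMap.range w).subtype_injective
        (LinearMap.exact_subtype_mkQ _) (Submodule.mkQ_surjective _) h₀ hf
    have he : Function.Exact (lTensor L (LinearMap.ker w).subtype) (lTensor L w.rangeRestrict) := by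
      refine lTensor_exact L (fun x => ?_) w.surjective_rangeRestrict
      constructor
      · intro h
        exact ⟨⟨x, LinearMap.mem_ker.2 (congrArg Subtype.val h)⟩, rfl⟩
      · rintro ⟨y, rfl⟩
        exact Subtype.ext (LinearMap.mem_ker.1 y.2)
    refine Eq.trans ?_ (LinearMap.exact_iff.1 he)
    have hw : lTensor L w = lTensor L (LinearMap.range w).subtype ∘ₗ lTensor L w.rangeRestrict := by
      rw [← LinearMap.lTensor_comp]; rfl
    rw [hw, LinearMap.ker_comp, LinearMap.ker_eq_bot.2 hinj, Submodule.comap_bot]
  have hL : (LinearMap.ker (lTensor L w)).map (lTensor L π) = LinearMap.range (lTensor L M.subtype) := by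
    rw [hker, ← LinearMap.range_comp, ← LinearMap.lTensor_comp]
    subst hM
    let a : LinearMap.ker w →ₗ[A] ↥((LinearMap.ker w).map π) :=
      (π ∘ₗ (LinearMap.ker w).subtype).codRestrict _ fun x => Submodule.mem_map_of_mem x.2
    refine Eq.trans ?_ (range_lTensor_comp a ((LinearMap.ker w).map π).subtype ?_)
    · rfl
    · rintro ⟨_, x, hx, rfl⟩
      exact ⟨⟨x, hx⟩, rfl⟩
  have hR : LinearMap.range (lTensor L v) = LinearMap.range (lTensor L N.subtype) := by
    subst hN
    exact (range_lTensor_comp v.rangeRestrict (LinearMap.range v).subtype v.surjective_rangeRestrict).symm.symm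
  rw [hL, hR]
  subst hS
  have hle : ∀ {T : Submodule A Q} (h : T ≤ M ⊔ N),
      LinearMap.range (lTensor L T.subtype) ≤ LinearMap.range (lTensor L (M ⊔ N).subtype) := by
    intro T h
    rw [show T.subtype = (M ⊔ N).subtype ∘ₗ Submodule.inclusion h from rfl, LinearMap.lTensor_comp]
    exact LinearMap.range_comp_le_range _ _
  have hsup : LinearMap.range (lTensor L (M ⊔ N).subtype) ≤
      LinearMap.range (lTensor L M.subtype) ⊔ LinearMap.range (lTensor L N.subtype) := by
    rintro _ ⟨z, rfl⟩
    induction z using TensorProduct.induction_on with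
    | zero => simp
    | tmul l x =>
      obtain ⟨y, hy, y', hy', e⟩ := Submodule.mem_sup.1 x.2
      rw [LinearMap.lTensor_tmul, Submodule.subtype_apply, ← e, tmul_add]
      exact Submodule.add_mem_sup ⟨l ⊗ₜ ⟨y, hy⟩, rfl⟩ ⟨l ⊗ₜ ⟨y', hy'⟩, rfl⟩
    | add x y hx hy => rw [map_add]; exact add_mem hx hy
  refine ⟨fun h => ⟨le_antisymm (hle hMS) ?_, le_antisymm (hle hNS) ?_⟩,
    fun h => h.1.trans h.2.symm⟩
  · exact hsup.trans (by rw [h, sup_idem])
  · exact hsup.trans (by rw [h, sup_idem])

section Matrix

variable {σ : Type} {I D Q X : Type} [Fintype I] [Fintype X] [DecidableEq I] [DecidableEq X]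
  [Fintype D] [DecidableEq D] [Fintype Q] [DecidableEq Q]

/-- The kernel of a matrix, projected, is the image of another one. -/
def Cond (ρ : Q → I) {R : Type u} [CommRing R] (W : Matrix D I (MvPolynomial σ R))
    (U : Matrix Q X (MvPolynomial σ R)) : Prop :=
  ∀ y : Q → MvPolynomial σ R, (∃ z, W.mulVec z = 0 ∧ z ∘ ρ = y) ↔ ∃ x, U.mulVec x = y

/-- The multiplication by a matrix, over the coefficient ring. -/
noncomputable def mul (W : Matrix D I (MvPolynomial σ A)) :
    (I → MvPolynomial σ A) →ₗ[A] (D → MvPolynomial σ A) :=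
  (Matrix.mulVecLin W).restrictScalars A

/-- Extension of coefficients of tuples of polynomials. -/
noncomputable def psi (L : Type u) [CommRing L] [Algebra A L] (J : Type) [Fintype J] [DecidableEq J] :
    L ⊗[A] (J → MvPolynomial σ A) ≃ₗ[L] (J → MvPolynomial σ L) :=
  TensorProduct.piRight A L L (fun _ : J => MvPolynomial σ A) ≪≫ₗ
    LinearEquiv.piCongrRight fun _ => (MvPolynomial.algebraTensorAlgEquiv A L).toLinearEquiv

theorem psi_tmul {J : Type} [Fintype J] [DecidableEq J] (l : L) (z : J → MvPolynomial σ A) (j : J) :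
    psi L J (l ⊗ₜ[A] z) j = l • MvPolynomial.map (algebraMap A L) (z j) := by
  simp [psi]

theorem psi_mul (W : Matrix D I (MvPolynomial σ A)) (z : L ⊗[A] (I → MvPolynomial σ A)) :
    psi L D (lTensor L (mul W) z) = (W.map (MvPolynomial.map (algebraMap A L))).mulVec (psi L I z) := by
  induction z using TensorProduct.induction_on with
  | zero => simp
  | tmul l z =>
    funext j
    rw [LinearMap.lTensor_tmul, psi_tmul]
    simp only [mul, LinearMap.restrictScalars_apply, Matrix.mulVecLin_apply, RingHom.map_mulVec]
    simp only [Matrix.mulVec, dotProduct, psi_tmul, Finset.smul_sum, Function.comp_apply, Matrix.map_apply,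
      mul_smul_comm]
  | add x y hx hy => simp only [map_add, hx, hy, Matrix.mulVec_add]

theorem cond_iff (ρ : Q → I) (W : Matrix D I (MvPolynomial σ A)) (U : Matrix Q X (MvPolynomial σ A)) :
    Cond ρ (W.map (MvPolynomial.map (algebraMap A L))) (U.map (MvPolynomial.map (algebraMap A L))) ↔
      (LinearMap.ker (lTensor L (mul W))).map (lTensor L (LinearMap.funLeft A (MvPolynomial σ A) ρ)) =
        LinearMap.range (lTensor L (mul U)) := by
  have hπ : ∀ z, psi L Q (lTensor L (LinearMap.funLeft A (MvPolynomial σ A) ρ) z) = psi L I z ∘ ρ := by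
    intro z
    induction z using TensorProduct.induction_on with
    | zero => funext j; simp
    | tmul l z => funext j; simp [psi_tmul, LinearMap.funLeft_apply]
    | add x y hx hy => simp only [map_add, hx, hy]; rfl
  rw [SetLike.ext_iff]
  constructor
  · intro h y
    refine Iff.trans ?_ (Iff.trans (h (psi L Q y)) ?_)
    · constructor
      · rintro ⟨z, hz, rfl⟩
        refine ⟨psi L I z, ?_, (hπ z).symm⟩
        rw [← psi_mul, LinearMap.mem_ker.1 hz, map_zero]
      · rintro ⟨z, hz, hzy⟩
        obtain ⟨z', rfl⟩ := (psi (A := A) (σ := σ) L I).surjective z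
        refine ⟨z', ?_, (psi L Q).injective (by rw [hπ, hzy])⟩
        rw [SetLike.mem_coe, LinearMap.mem_ker, ← (psi L D).map_eq_zero_iff, psi_mul, hz]
    · constructor
      · rintro ⟨x, hx⟩
        obtain ⟨x', rfl⟩ := (psi (A := A) (σ := σ) L X).surjective x
        exact ⟨x', (psi L Q).injective (by rw [psi_mul, hx])⟩
      · rintro ⟨x, rfl⟩
        exact ⟨psi L X x, (psi_mul U x).symm⟩
  · intro h y
    obtain ⟨y', rfl⟩ := (psi (A := A) (σ := σ) L Q).surjective y
    refine Iff.trans ?_ (Iff.trans (h y') ?_)
    · constructor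
      · rintro ⟨z, hz, hzy⟩
        obtain ⟨z', rfl⟩ := (psi (A := A) (σ := σ) L I).surjective z
        refine ⟨z', ?_, (psi L Q).injective (by rw [hπ, hzy])⟩
        rw [SetLike.mem_coe, LinearMap.mem_ker, ← (psi L D).map_eq_zero_iff, psi_mul, hz]
      · rintro ⟨z, hz, rfl⟩
        refine ⟨psi L I z, ?_, (hπ z).symm⟩
        rw [← psi_mul, LinearMap.mem_ker.1 hz, map_zero]
    · constructor
      · rintro ⟨x, rfl⟩
        exact ⟨psi L X x, (psi_mul U x).symm⟩
      · rintro ⟨x, hx⟩
        obtain ⟨x', rfl⟩ := (psi (A := A) (σ := σ) L X).surjective x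
        exact ⟨x', (psi L Q).injective (by rw [psi_mul, hx])⟩

/-- Over a domain the condition is constant on a nonempty basic open. -/
theorem exists_generic [IsDomain A] [IsNoetherianRing A] [Finite σ] (ρ : Q → I) (W : Matrix D I (MvPolynomial σ A))
    (U : Matrix Q X (MvPolynomial σ A)) :
    ∃ (f : A) (c : Prop), f ≠ 0 ∧ ∀ (L : Type u) [CommRing L] [Nontrivial L] (φ : A →+* L), IsUnit (φ f) →
      (Cond ρ (W.map (MvPolynomial.map φ)) (U.map (MvPolynomial.map φ)) ↔ c) := by
  let P := MvPolynomial σ A
  let π : (I → P) →ₗ[P] (Q → P) := LinearMap.funLeft P P ρ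
  let wP := Matrix.mulVecLin W
  let M : Submodule P (Q → P) := (LinearMap.ker wP).map π
  let N : Submodule P (Q → P) := LinearMap.range (Matrix.mulVecLin U)
  let S : Submodule P (Q → P) := M ⊔ N
  have hM : M ≤ S := le_sup_left
  have hN : N ≤ S := le_sup_right
  haveI : Algebra.FiniteType A P := inferInstance
  haveI : IsNoetherianRing P := inferInstance
  have gf := GenFree.gf_of_finiteType (R := A) P
  obtain ⟨f₀, -, hf₀, k₀⟩ := gf ((D → P) ⧸ LinearMap.range wP) 1 one_ne_zero
  obtain ⟨f₁, hd₁, hf₁, k₁⟩ := gf ((Q → P) ⧸ S) f₀ hf₀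
  obtain ⟨f₂, hd₂, hf₂, k₂⟩ := gf (↥S ⧸ LinearMap.range (Submodule.inclusion hM)) f₁ hf₁
  obtain ⟨f₃, hd₃, hf₃, k₃⟩ := gf (↥S ⧸ LinearMap.range (Submodule.inclusion hN)) f₂ hf₂
  have hM' : M.restrictScalars A ≤ S.restrictScalars A := hM
  have hN' : N.restrictScalars A ≤ S.restrictScalars A := hN
  obtain ⟨c, hc⟩ := exists_const (A := A) (f := f₃) (mul W) (LinearMap.funLeft A P ρ) (mul U)
    (M.restrictScalars A) (N.restrictScalars A) (S.restrictScalars A) rfl rfl
    (Submodule.restrictScalars_sup ..) hM' hN'
    ((k₀.mono ((hd₁.trans hd₂).trans hd₃)).of_equiv (Submodule.Quotient.restrictScalarsEquiv A _).symm)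
    ((k₁.mono (hd₂.trans hd₃)).of_equiv (Submodule.Quotient.restrictScalarsEquiv A _).symm)
    ((k₂.mono hd₃).of_equiv (Submodule.Quotient.restrictScalarsEquiv A (LinearMap.range (Submodule.inclusion hM))).symm)
    (k₃.of_equiv (Submodule.Quotient.restrictScalarsEquiv A (LinearMap.range (Submodule.inclusion hN))).symm)
  refine ⟨f₃, c, hf₃, fun L _ _ φ hφ => ?_⟩
  letI := φ.toAlgebra
  exact (cond_iff ρ W U).trans (hc L hφ)

end Matrix

end GrothLib.FibExact10
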