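import Groth.Agent.Lib.FibExact10.Generic
import Groth.Agent.Lib.NoethTop.Constructible
import Mathlib.RingTheory.Spectrum.Prime.Noetherian
import Mathlib.RingTheory.FiniteType
import Mathlib.RingTheory.Adjoin.FG
import Mathlib.RingTheory.Ideal.Quotient.Noetherian

/-!
# The fibrewise locus is constructible
-/

set_option autoImplicit false
set_option linter.all false
set_option backward.isDefEq.respectTransparency false

universe u

open TopologicalSpace

namespace GrothLib.FibExact10

variable {σ I D Q X : Type} [Finite σ] [Fintype I] [Fintype X] [DecidableEq I] [DecidableEq X]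
  [Fintype D] [DecidableEq D] [Fintype Q] [DecidableEq Q]

/-- The locus where the condition holds on the fibre. -/
def locus (ρ : Q → I) {R : Type u} [CommRing R] (W : Matrix D I (MvPolynomial σ R))
    (U : Matrix Q X (MvPolynomial σ R)) : Set (PrimeSpectrum R) :=
  {p | Cond ρ (W.map (MvPolynomial.map (algebraMap R p.asIdeal.ResidueField)))
    (U.map (MvPolynomial.map (algebraMap R p.asIdeal.ResidueField)))}

omit [Finite σ] [Fintype X] [DecidableEq I] [DecidableEq X] [DecidableEq D] [DecidableEq Q] [Fintype D] [Fintype Q] in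
theorem map_map' {R S T : Type u} [CommRing R] [CommRing S] [CommRing T] (f : R →+* S) (g : S →+* T)
    {a b : Type} (W : Matrix a b (MvPolynomial σ R)) :
    (W.map (MvPolynomial.map f)).map (MvPolynomial.map g) = W.map (MvPolynomial.map (g.comp f)) := by
  rw [Matrix.map_map]; congr 1; funext x; exact MvPolynomial.map_map f g x

/-- The condition on a field does not change under field extensions. -/
theorem cond_field (ρ : Q → I) {K L : Type u} [Field K] [Field L] (φ : K →+* L)
    (W : Matrix D I (MvPolynomial σ K)) (U : Matrix Q X (MvPolynomial σ K)) :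
    Cond ρ (W.map (MvPolynomial.map φ)) (U.map (MvPolynomial.map φ)) ↔ Cond ρ W U := by
  obtain ⟨f, c, hf, hc⟩ := exists_generic ρ W U
  rw [hc L φ ((IsUnit.mk0 f hf).map φ)]
  have h := hc K (RingHom.id K) (IsUnit.mk0 f hf)
  have hW : W.map (MvPolynomial.map (RingHom.id K)) = W := Matrix.ext fun i j => MvPolynomial.map_id _
  have hU : U.map (MvPolynomial.map (RingHom.id K)) = U := Matrix.ext fun i j => MvPolynomial.map_id _
  rw [hW, hU] at h
  exact h.symm

theorem isConstructible_locus_noetherian (ρ : Q → I) {R : Type u} [CommRing R] [IsNoetherianRing R]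
    (W : Matrix D I (MvPolynomial σ R)) (U : Matrix Q X (MvPolynomial σ R)) :
    Topology.IsConstructible (locus ρ W U) := by
  refine NoethTop.isConstructible_of_forall fun Y hY hYi hd => ?_
  let q := PrimeSpectrum.vanishingIdeal Y
  haveI : q.IsPrime := (PrimeSpectrum.isIrreducible_iff_vanishingIdeal_isPrime).1 hYi
  have hYq : PrimeSpectrum.zeroLocus (q : Set R) = Y := by
    rw [PrimeSpectrum.zeroLocus_vanishingIdeal_eq_closure, hY.closure_eq]
  obtain ⟨f, c, hf, hc⟩ := exists_generic (A := R ⧸ q) ρ (W.map (MvPolynomial.map (Ideal.Quotient.mk q)))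
    (U.map (MvPolynomial.map (Ideal.Quotient.mk q)))
  obtain ⟨f, rfl⟩ := Ideal.Quotient.mk_surjective f
  have hfq : f ∉ q := fun h => hf (Ideal.Quotient.eq_zero_iff_mem.2 h)
  have hqY : (⟨q, inferInstance⟩ : PrimeSpectrum R) ∈ Y := by
    rw [← hYq, PrimeSpectrum.mem_zeroLocus]
  have hconst : ∀ r ∈ Y, f ∉ r.asIdeal → (r ∈ locus ρ W U ↔ c) := by
    intro r hr hfr
    have hle : q ≤ r.asIdeal := by
      rw [← hYq, PrimeSpectrum.mem_zeroLocus] at hr; exact hr
    let φ : R ⧸ q →+* r.asIdeal.ResidueField := Ideal.Quotient.lift q (algebraMap R _) fun a ha =>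
      Ideal.algebraMap_residueField_eq_zero.2 (hle ha)
    have h := hc r.asIdeal.ResidueField φ (by
      rw [Ideal.Quotient.lift_mk, isUnit_iff_ne_zero, ne_eq, Ideal.algebraMap_residueField_eq_zero]
      exact hfr)
    rw [map_map', map_map', Ideal.Quotient.lift_comp_mk] at h
    exact h
  have hqU : (⟨q, inferInstance⟩ : PrimeSpectrum R) ∈ (PrimeSpectrum.basicOpen f : Set _) := hfq
  refine ⟨PrimeSpectrum.basicOpen f, (PrimeSpectrum.basicOpen f).2, ⟨_, hqU, hqY⟩, ?_⟩
  rintro r ⟨hrf, hrY⟩
  by_cases hc' : c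
  · exact (hconst r hrY hrf).2 hc'
  · exfalso
    obtain ⟨z, hzU, hzE, hzY⟩ := mem_closure_iff.1 (hd hqY) _ (PrimeSpectrum.basicOpen f).2 hqU
    exact hc' ((hconst z hzY hzU).1 hzE)

theorem isConstructible_locus (ρ : Q → I) {R : Type u} [CommRing R]
    (W : Matrix D I (MvPolynomial σ R)) (U : Matrix Q X (MvPolynomial σ R)) :
    Topology.IsConstructible (locus ρ W U) := by
  classical
  let s : Finset R := (Finset.univ.biUnion fun i => Finset.univ.biUnion fun j => (W i j).coeffs) ∪
    (Finset.univ.biUnion fun i => Finset.univ.biUnion fun j => (U i j).coeffs)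
  let R₀ := Algebra.adjoin ℤ (s : Set R)
  haveI : IsNoetherianRing R₀ := isNoetherianRing_of_fg (Subalgebra.fg_adjoin_finset s)
  let ι : R₀ →+* R := R₀.val.toRingHom
  have hl : ∀ p : MvPolynomial σ R, (↑p.coeffs : Set R) ⊆ ↑s → ∃ p₀, MvPolynomial.map ι p₀ = p := by
    intro p hp
    refine MvPolynomial.mem_range_map_iff_coeffs_subset.2 (hp.trans fun x hx => ?_)
    exact ⟨⟨x, Algebra.subset_adjoin hx⟩, rfl⟩
  choose W₀ hW₀ using fun i j => hl (W i j) (fun x hx => Finset.mem_coe.2 (Finset.mem_union_left _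
    (Finset.mem_biUnion.2 ⟨i, Finset.mem_univ _, Finset.mem_biUnion.2 ⟨j, Finset.mem_univ _, hx⟩⟩)))
  choose U₀ hU₀ using fun i j => hl (U i j) (fun x hx => Finset.mem_coe.2 (Finset.mem_union_right _
    (Finset.mem_biUnion.2 ⟨i, Finset.mem_univ _, Finset.mem_biUnion.2 ⟨j, Finset.mem_univ _, hx⟩⟩)))
  have hW : (Matrix.of W₀).map (MvPolynomial.map ι) = W := Matrix.ext hW₀
  have hU : (Matrix.of U₀).map (MvPolynomial.map ι) = U := Matrix.ext hU₀
  have key : locus ρ W U = PrimeSpectrum.comap ι ⁻¹' locus ρ (Matrix.of W₀) (Matrix.of U₀) := by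
    ext p
    let φ : (PrimeSpectrum.comap ι p).asIdeal.ResidueField →+* p.asIdeal.ResidueField :=
      Ideal.ResidueField.map (PrimeSpectrum.comap ι p).asIdeal p.asIdeal ι rfl
    have hφ : φ.comp (algebraMap R₀ _) = (algebraMap R p.asIdeal.ResidueField).comp ι :=
      RingHom.ext fun x => Ideal.ResidueField.map_algebraMap _ _ _ _ x
    show Cond ρ _ _ ↔ Cond ρ _ _
    rw [← cond_field ρ φ (((Matrix.of W₀).map (MvPolynomial.map (algebraMap R₀ _))))
      (((Matrix.of U₀).map (MvPolynomial.map (algebraMap R₀ _))))]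
    rw [map_map', map_map', hφ, ← map_map', ← map_map', hW, hU]
  rw [key]
  refine (isConstructible_locus_noetherian ρ _ _).preimage (PrimeSpectrum.continuous_comap ι) fun t ht ht' => ?_
  rw [QuasiSeparatedSpace.isRetrocompact_iff_isCompact (ht.preimage (PrimeSpectrum.continuous_comap ι))]
  obtain ⟨u, hu⟩ := PrimeSpectrum.isCompact_isOpen_iff.1 ⟨(QuasiSeparatedSpace.isRetrocompact_iff_isCompact ht).1 ht', ht⟩
  exact (PrimeSpectrum.isCompact_isOpen_iff.2 ⟨u.image ι, by
    rw [← hu, Set.preimage_compl, PrimeSpectrum.preimage_comap_zeroLocus, Finset.coe_image]⟩).1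

end GrothLib.FibExact10
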